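import Cfsg.Agent.Mrg.Omega.NO3S.Level.Cut
import Cfsg.Agent.Mrg.Omega.NO3S.Fld.LevRed
import Cfsg.Agent.Mrg.Omega.NO3S.Fld.LevEnd
import Cfsg.Agent.Mrg.Omega.NO3S.RedC.MaxMin
import Cfsg.Agent.Mrg.Omega.NO3S.BetaFF.UniqZ
import Cfsg.Agent.Mrg.Omega.Spread.ElatOf
import Cfsg.Agent.Mrg.Omega.NO3S.Fld.FourBase

-- merged: Cfsg.Agent.Mrg.Omega.NO3S.RedC.Frame
section

/-!
# RED in the case (L) (helper284 #23199): the frame

`CaseL S P`, `L = V_P` natural with coordinates `M : Crd F S P L`, `R = M.R`; `X ∈ P(S)` centralises `Z`, moves `R`,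
`J(S) ≤ O₂(X)` (`Rx`).

* `DX S P X` : the largest weakly closed subgroup of `S` in `O₂(P) ∩ O₂(X)`, `GX S P X = N_G(DX)`;
* `principle` : **(P_X)** a `GX`-closed family with a member in `S` not in `DX` has a member in `S` which is not in
  `O₂(P)` or not in `O₂(X)`;
* `Rx.lev`, `Rx.P_le`, `Rx.X_le`, `Rx.par_le`, `Rx.NS_le` : `DX` is a level; `P, X, P*(S), N_G(S) ≤ GX`;
* `Rx.cs` : `C_S(V) = DX` for `V_P ≤ V ≤ Ω₁(Z(DX))`, `V` normal in `GX`.
-/

set_option autoImplicit false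
set_option linter.unusedSectionVars false

namespace Cfsg.Agent.Omega.NO3S.RedC

open Subgroup Cfsg Cfsg.Agent.ZN Cfsg.Agent.ZN.ChoiceBase Cfsg.Agent.Omega.MinPar Cfsg.Agent.Omega.Frame
open Cfsg.Agent.ZN.ChoiceSit (Syl)
open Cfsg.Agent.Omega.FrameNOFF (CZ)
open Cfsg.Agent.Omega.NO3b.Wc (WC cj_sSup)
open Cfsg.Agent.Omega.NO3b.EZero (cl cl_le le_cl oddGen_sup_syl)
open Cfsg.Agent.MinSimple.VModule (oddGen zc_le_zl)
open Cfsg.Agent.Omega.NO3S.Level
open Cfsg.Agent.Omega.NO3S.Fld (Crd)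

universe u

variable {G : Type u} [Group G] [Finite G]

/-- The largest weakly closed subgroup of `S` in `O₂(P) ∩ O₂(X)`. -/
def DX (S P X : Subgroup G) : Subgroup G := sSup {B | WC S B ∧ B ≤ o2 P ∧ B ≤ o2 X}

/-- `N_G(DX)` -/
def GX (S P X : Subgroup G) : Subgroup G := normalizer (DX S P X : Set G)

theorem wc_DX (S P X : Subgroup G) : WC S (DX S P X) := WC.sSup fun _ hb => hb.1

theorem DX_le (S P X : Subgroup G) : DX S P X ≤ S := (wc_DX S P X).le

theorem DX_le_P (S P X : Subgroup G) : DX S P X ≤ o2 P := sSup_le fun _ hb => hb.2.1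

theorem DX_le_X (S P X : Subgroup G) : DX S P X ≤ o2 X := sSup_le fun _ hb => hb.2.2

theorem le_DX {S P X B : Subgroup G} (hB : WC S B) (h1 : B ≤ o2 P) (h2 : B ≤ o2 X) : B ≤ DX S P X :=
  le_sSup ⟨hB, h1, h2⟩

theorem mem_GX {S P X : Subgroup G} {g : G} (hg : cj g (DX S P X) ≤ S) : g ∈ GX S P X :=
  WC.mem_norm (wc_DX S P X) hg

theorem norm_le_GX {S P X T : Subgroup G} (h1 : DX S P X ≤ T) (h2 : T ≤ S) : normalizer (T : Set G) ≤ GX S P X :=
  WC.norm_le (wc_DX S P X) h1 h2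

theorem S_le_GX (S P X : Subgroup G) : S ≤ GX S P X := le_normalizer.trans (norm_le_GX (DX_le S P X) le_rfl)

theorem GX_norm (S P X : Subgroup G) : GX S P X ≤ normalizer (zc (DX S P X) : Set G) := normalizer_le_zc _

/-- **(P_X)** -/
theorem principle {S P X : Subgroup G} {F : Set (Subgroup G)} (hF : ∀ A ∈ F, ∀ n ∈ GX S P X, cj n A ∈ F)
    {A : Subgroup G} (hA : A ∈ F) (hAS : A ≤ S) (hAD : ¬ A ≤ DX S P X) :
    ∃ B ∈ F, B ≤ S ∧ (¬ B ≤ o2 P ∨ ¬ B ≤ o2 X) := by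
  by_contra hcon
  have hcon' : ∀ B ∈ F, B ≤ S → B ≤ o2 P ∧ B ≤ o2 X := by
    intro B hB hBS
    by_contra h1
    exact hcon ⟨B, hB, hBS, not_and_or.1 h1⟩
  set K : Subgroup G := DX S P X ⊔ sSup {B | B ∈ F ∧ B ≤ S} with hK
  have hKS : K ≤ S := sup_le (DX_le _ _ _) (sSup_le fun B hB => hB.2)
  have hKW : K ≤ DX S P X := by
    refine le_DX ⟨hKS, fun g hg => ?_⟩ (sup_le (DX_le_P _ _ _) (sSup_le fun B hB => (hcon' B hB.1 hB.2).1))
      (sup_le (DX_le_X _ _ _) (sSup_le fun B hB => (hcon' B hB.1 hB.2).2))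
    have h2 : g ∈ GX S P X := mem_GX ((cj_mono g le_sup_left).trans hg)
    have h4 : cj g K ≤ K := by
      change Subgroup.map _ _ ≤ _
      rw [hK, Subgroup.map_sup]
      refine sup_le_sup (cj_eq_of_mem_normalizer h2).le ?_
      change cj g (sSup {B | B ∈ F ∧ B ≤ S}) ≤ _
      rw [cj_sSup]
      refine iSup_le fun B => ?_
      have h5 : cj g (B : Subgroup G) ≤ S := (cj_mono g ((le_sSup B.2).trans le_sup_right)).trans hg
      exact le_sSup (a := cj g (B : Subgroup G)) ⟨hF _ B.2.1 g h2, h5⟩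
    exact Subgroup.eq_of_le_of_card_ge h4 (card_cj _ _).ge
  have h6 : A ≤ K := (le_sSup (s := {B | B ∈ F ∧ B ≤ S}) ⟨hA, hAS⟩).trans le_sup_right
  exact hAD (h6.trans hKW)

variable {S : Sylow 2 G} {P X : Subgroup G} {F : Type*} [Field F]

/-- **The situation**: `X ∈ P(S)` in `C_G(Z)` moves `R`, `J(S) ≤ O₂(X)`. -/
structure Rx (S : Sylow 2 G) (P X : Subgroup G) (M : Crd F (S : Subgroup G) P (zl (S : Subgroup G) P)) : Prop where
  cl : CaseL S P
  par : IsPar (S : Subgroup G) X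
  le : X ≤ CZ (S : Subgroup G)
  mv : ¬ X ≤ normalizer (M.R : Set G)
  jX : jj (S : Subgroup G) ≤ o2 X

namespace Rx

variable {M : Crd F (S : Subgroup G) P (zl (S : Subgroup G) P)} (h : Rx S P X M)
include h

theorem hG : IsCharacteristicTwoType G := h.cl.ctx.char2

theorem hyp : Hyp S P := h.cl.hypN.toHyp

theorem parP : IsParS (S : Subgroup G) P := h.cl.pss.par

theorem syl : Syl (S : Subgroup G) X :=
  ⟨h.par.le, S.isPGroup', fun _ _ hT hST => S.is_maximal' hT hST⟩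

theorem S_X : (S : Subgroup G) ≤ X := h.par.le

theorem o2X_le : o2 X ≤ (S : Subgroup G) := ChoiceSit.o2_le_syl h.syl

theorem o2P_le : o2 P ≤ (S : Subgroup G) := h.parP.isLoc.o2_le S

theorem jP : jj (S : Subgroup G) ≤ o2 P := h.cl.hj P h.parP

theorem jD : jj (S : Subgroup G) ≤ DX (S : Subgroup G) P X := le_DX (wc_jj S) h.jP h.jX

/-- `DX` is a level. -/
theorem lev : Lev (S : Subgroup G) (DX (S : Subgroup G) P X) where
  le := DX_le _ _ _
  jjle := h.jD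
  norm := fun _ h1 h2 => norm_le_GX h1 h2

theorem P_le : P ≤ GX (S : Subgroup G) P X := h.lev.le_norm_of_o2 (DX_le_P _ _ _) h.o2P_le

theorem X_le : X ≤ GX (S : Subgroup G) P X := h.lev.le_norm_of_o2 (DX_le_X _ _ _) h.o2X_le

theorem S_le : (S : Subgroup G) ≤ GX (S : Subgroup G) P X := S_le_GX _ _ _

theorem par_le {R : Subgroup G} (hR : IsParS (S : Subgroup G) R) : R ≤ GX (S : Subgroup G) P X :=
  h.lev.le_norm_of_o2 ((DX_le_P _ _ _).trans (h.cl.o2_le hR)) (hR.isLoc.o2_le S)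

theorem NS_le : normalizer ((S : Subgroup G) : Set G) ≤ GX (S : Subgroup G) P X := norm_le_GX (DX_le _ _ _) le_rfl

/-- `V_P ≤ Ω₁(Z(DX))` -/
theorem L_le : zl (S : Subgroup G) P ≤ zc (DX (S : Subgroup G) P X) := by
  rw [← h.cl.zc_eq]
  exact h.lev.zc_o2_le (DX_le_P _ _ _) h.o2P_le

theorem o2X_le_V : zc (o2 X) ≤ zc (DX (S : Subgroup G) P X) := h.lev.zc_o2_le (DX_le_X _ _ _) h.o2X_le

theorem Z_le : zc (S : Subgroup G) ≤ zc (DX (S : Subgroup G) P X) := h.lev.zc_le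

theorem D_cent : DX (S : Subgroup G) P X ≤ centralizer (zc (DX (S : Subgroup G) P X) : Set G) :=
  Level.le_centralizer_zc _

theorem V_le_S : zc (DX (S : Subgroup G) P X) ≤ (S : Subgroup G) := (ZN.zc_le _).trans (DX_le _ _ _)

theorem V_sq : ∀ v ∈ zc (DX (S : Subgroup G) P X), v ^ 2 = 1 := fun _ hv => (ChoiceBase.mem_zc.1 hv).2.1

theorem V_comm : zc (DX (S : Subgroup G) P X) ≤ centralizer (zc (DX (S : Subgroup G) P X) : Set G) := fun _ hx =>
  mem_centralizer_iff.2 fun _ hy => Lev.zc_comm hy hx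

/-- `⟨Y^X⟩ ≤ V` for `Y ≤ V`, `V` normal in `GX` -/
theorem cl_le_V {V Y : Subgroup G} (hV : GX (S : Subgroup G) P X ≤ normalizer (V : Set G)) (hY : Y ≤ V) :
    NO3b.EZero.cl Y X ≤ V := cl_le fun x hx => by
  have h1 := cj_mono x hY
  rwa [cj_eq_of_mem_normalizer (hV (h.X_le hx))] at h1

/-- `C_S(V) ≤ O₂(X)` for `R ≤ V`, `V` normal in `X` -/
theorem cs_le_X {V : Subgroup G} (hV : X ≤ normalizer (V : Set G)) (hR : M.R ≤ V) :
    (S : Subgroup G) ⊓ centralizer (V : Set G) ≤ o2 X := by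
  have hXX : X ≤ normalizer ((X ⊓ centralizer (V : Set G) : Subgroup G) : Set G) :=
    NO3b.EZero.le_normalizer_inf_cent hV
  rcases NO3b.K0.min_or h.syl h.par.toIsMinPar (K := X ⊓ centralizer (V : Set G)) inf_le_left hXX with h2 | h2
  · exfalso
    apply h.mv
    have h3 : oddGen X ≤ centralizer (M.R : Set G) := (h2.trans inf_le_right).trans (centralizer_le hR)
    rw [← oddGen_sup_syl h.syl]
    exact sup_le (h3.trans (centralizer_le_normalizer _)) M.S_R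
  · exact (le_inf inf_le_left (le_inf (inf_le_left.trans h.S_X) inf_le_right)).trans h2

/-- `C_S(V) = DX` for `V_P ≤ V ≤ Ω₁(Z(DX))`, `V` normal in `GX`. -/
theorem cs {V : Subgroup G} (h1 : zl (S : Subgroup G) P ≤ V) (h2 : V ≤ zc (DX (S : Subgroup G) P X))
    (h3 : GX (S : Subgroup G) P X ≤ normalizer (V : Set G)) :
    (S : Subgroup G) ⊓ centralizer (V : Set G) = DX (S : Subgroup G) P X := by
  have hK : DX (S : Subgroup G) P X ≤ (S : Subgroup G) ⊓ centralizer (V : Set G) :=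
    le_inf (DX_le _ _ _) (h.D_cent.trans (centralizer_le h2))
  refine le_antisymm (le_DX ⟨inf_le_left, fun g hg => ?_⟩ ?_ ?_) hK
  · have h4 : g ∈ GX (S : Subgroup G) P X := mem_GX ((cj_mono g hK).trans hg)
    have h5 : cj g V = V := cj_eq_of_mem_normalizer (h3 h4)
    have h6 : cj g ((S : Subgroup G) ⊓ centralizer (V : Set G)) ≤ (S : Subgroup G) ⊓ centralizer (V : Set G) := by
      refine le_inf hg ?_
      rw [cj_inf, cj_centralizer, h5]
      exact inf_le_right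
    exact Subgroup.eq_of_le_of_card_ge h6 (card_cj _ _).ge
  · rw [← IsParS.inf_centralizer S h.hG h.parP]
    exact inf_le_inf_left _ (centralizer_le h1)
  · exact h.cs_le_X (h.X_le.trans h3) (M.R_le.trans h1)

/-- `⟨Z^GX⟩ ≤ Ω₁(Z(DX))`, `V_P ≤ ⟨Z^GX⟩` -/
theorem zl_GX_le : zl (S : Subgroup G) (GX (S : Subgroup G) P X) ≤ zc (DX (S : Subgroup G) P X) :=
  ZN.zl_le h.Z_le (GX_norm _ _ _)

theorem L_le_zl : zl (S : Subgroup G) P ≤ zl (S : Subgroup G) (GX (S : Subgroup G) P X) :=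
  ZN.zl_le ZN.zc_le_zl (h.P_le.trans (ZN.le_normalizer_zl _ _))

theorem cs_zl : (S : Subgroup G) ⊓ centralizer (zl (S : Subgroup G) (GX (S : Subgroup G) P X) : Set G) =
    DX (S : Subgroup G) P X := h.cs h.L_le_zl h.zl_GX_le (ZN.le_normalizer_zl _ _)

theorem cs_V : (S : Subgroup G) ⊓ centralizer (zc (DX (S : Subgroup G) P X) : Set G) = DX (S : Subgroup G) P X :=
  h.cs h.L_le le_rfl (GX_norm _ _ _)

/-- **(P_X)** for 2-subgroups of `GX` which move `V`. -/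
theorem prin {V : Subgroup G} (h2 : V ≤ zc (DX (S : Subgroup G) P X)) {B : Subgroup G}
    (hB : B ≤ GX (S : Subgroup G) P X) (hB2 : IsPGroup 2 B) (hne : ¬ B ≤ centralizer (V : Set G))
    {𝓕 : Set (Subgroup G)} (h𝓕 : ∀ A ∈ 𝓕, ∀ n ∈ GX (S : Subgroup G) P X, cj n A ∈ 𝓕) (hB𝓕 : B ∈ 𝓕) :
    ∃ A ∈ 𝓕, A ≤ (S : Subgroup G) ∧ (¬ A ≤ o2 P ∨ ¬ A ≤ o2 X) := by
  obtain ⟨n, hn, hnS⟩ := FFThm.exists_conj_le S h.S_le hB2 hB
  refine principle h𝓕 (h𝓕 B hB𝓕 n hn) hnS fun h1 => ?_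
  have h3 := cj_mono n⁻¹ h1
  rw [cj_inv_cj, cj_eq_of_mem_normalizer (inv_mem hn : n⁻¹ ∈ normalizer (DX (S : Subgroup G) P X : Set G))] at h3
  exact hne (h3.trans (h.D_cent.trans (centralizer_le h2)))

end Rx

end Cfsg.Agent.Omega.NO3S.RedC

end

-- merged: Cfsg.Agent.Mrg.Omega.NO3S.RedC.Single
section

section


/-!
# RED in the case (L) (helper284 #23199): (2) one offender

`Rx S P X M`, `|F| ≥ 4`, `|Z| ≠ |F|`; `U = ⟨V_P^X⟩`.

* `Rx.ff` : `C_U(O₂(X)) ≤ C(O²(X))` if there is an offender `A ≤ S`, `A ≰ O₂(X)` on the subgroups of `U` (`O5`);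
* **`Rx.single`** : there is no such `A` (`|F| = 4`: helper749, `Fld/WFour`; `|F| ≥ 16`: `Crd.norm_R''`).
-/

set_option autoImplicit false
set_option linter.unusedSectionVars false

namespace Cfsg.Agent.Omega.NO3S.RedC

open Subgroup Cfsg Cfsg.Agent.ZN Cfsg.Agent.ZN.ChoiceBase Cfsg.Agent.Omega.MinPar Cfsg.Agent.Omega.Frame
open Cfsg.Agent.ZN.ChoiceSit (Syl)
open Cfsg.Agent.Omega.FrameNOFF
open Cfsg.Agent.Omega.NO3b.EZero (cl cl_le le_cl cj_le_cl le_normalizer_cl oddGen_sup_syl)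
open Cfsg.Agent.MinSimple.VModule (oddGen oddGen_le zc_le_zl)
open Cfsg.Agent.Omega.NO3S.Level
open Cfsg.Agent.Omega.NO3S.Fld (Crd)
open Cfsg.Agent.Omega.NO3S.Fld.WFour (O5)

universe u

variable {G : Type u} [Group G] [Finite G] {S : Sylow 2 G} {P X : Subgroup G}
variable {F : Type*} [Field F]

namespace Rx

variable {M : Crd F (S : Subgroup G) P (zl (S : Subgroup G) P)} (h : Rx S P X M)
include h

/-- `U = ⟨V^X⟩ ≤ ⟨V^{C_G(Z)}⟩` -/
theorem U_le_WW : NO3b.EZero.cl (zl (S : Subgroup G) P) X ≤ WW (S : Subgroup G) P :=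
  cl_le fun _ hx => conj_zl_le_WW (h.le hx)

theorem U_comm : NO3b.EZero.cl (zl (S : Subgroup G) P) X ≤ centralizer (NO3b.EZero.cl (zl (S : Subgroup G) P) X : Set G) :=
  (h.U_le_WW.trans h.hyp.W_comm).trans (centralizer_le h.U_le_WW)

theorem U_sq : ∀ u ∈ NO3b.EZero.cl (zl (S : Subgroup G) P) X, u ^ 2 = 1 := fun u hu => h.hyp.W_sq u (h.U_le_WW hu)

theorem U_norm : X ≤ normalizer (NO3b.EZero.cl (zl (S : Subgroup G) P) X : Set G) := le_normalizer_cl _ _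

theorem U_le_S : NO3b.EZero.cl (zl (S : Subgroup G) P) X ≤ (S : Subgroup G) := Crd.cl_le_S h.hyp h.S_X h.le

theorem R_le_U : NO3b.EZero.cl M.R X ≤ NO3b.EZero.cl (zl (S : Subgroup G) P) X :=
  cl_le fun _ hp => (cj_mono _ M.R_le).trans (cj_le_cl hp)

/-- `Z ≤ C(X)` -/
theorem mem_cent {y : G} (hyS : y ∈ (S : Subgroup G)) (hy2 : y ^ 2 = 1) (hy : y ∈ centralizer ((S : Subgroup G) : Set G)) :
    y ∈ centralizer (oddGen X : Set G) := by
  have h1 : y ∈ zc (S : Subgroup G) := ZN.mem_zc.2 ⟨hyS, fun b hb => mem_centralizer_iff.1 hy b hb, hy2⟩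
  rw [mem_centralizer_iff]
  intro x hx
  exact (mem_centralizer_iff.1 (h.le (oddGen_le X hx)) y h1).symm

/-- The FF-LEMMA. -/
theorem ff {A : Subgroup G} (o : O5 S P X A) :
    NO3b.EZero.cl (zl (S : Subgroup G) P) X ⊓ centralizer (o2 X : Set G) ≤ centralizer (oddGen X : Set G) := by
  have hYU : NO3b.EZero.cl (zl (S : Subgroup G) P) X ⊓ centralizer (o2 X : Set G) ≤ NO3b.EZero.cl (zl (S : Subgroup G) P) X := inf_le_left
  refine Fld.ff_lemma_off FF.Glob.aStmt h.syl h.par.toIsMinPar (hYU.trans (h.U_le_S.trans h.S_X))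
    (fun y hy => h.U_sq y (hYU hy)) (hYU.trans (h.U_comm.trans (centralizer_le hYU)))
    (NotFF.normalizer_inf h.U_norm (NotFF.normalizer_centralizer (ZN.le_normalizer_o2 X)))
    (le_centralizer_iff.1 inf_le_right) ?_ o.le o.nQ
    ⟨fun a ha => centralizer_le hYU (o.elem.sq a ha), fun a ha b hb => centralizer_le hYU (o.elem.comm a ha b hb)⟩
    (FFThm.relIndex_le_iff.2 (o.off _ hYU))
  rintro y ⟨hy, hyS⟩
  exact h.mem_cent (h.U_le_S (hYU hy)) (h.U_sq y (hYU hy)) hyS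

/-- `O₂(X)` moves `R`. -/
theorem nQR {A : Subgroup G} (o : O5 S P X A) : ¬ o2 X ≤ centralizer (M.R : Set G) := by
  intro h0
  apply h.mv
  have h1 : M.R ≤ NO3b.EZero.cl (zl (S : Subgroup G) P) X ⊓ centralizer (o2 X : Set G) :=
    le_inf (M.R_le.trans (le_cl _ _)) (le_centralizer_iff.1 h0)
  have h2 : oddGen X ≤ centralizer (M.R : Set G) := le_centralizer_iff.1 (h1.trans (h.ff o))
  rw [← oddGen_sup_syl h.syl]
  exact sup_le (h2.trans (centralizer_le_normalizer _)) M.S_R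

/-- **(2)** -/
theorem single [Finite F] [CharP F 2] (hF : Nat.card (zc (S : Subgroup G)) ≠ Nat.card F) {A : Subgroup G}
    (o : O5 S P X A) : False := by
  rcases Fld.card_four_or' h.hyp M hF with h4 | h16
  · exact Fld.WFour.false_of_o5 h.cl.hypF M h4 (by rwa [h4] at hF) h.par h.le h.mv (h.nQR o) o
  · refine h.mv (Crd.norm_R'' h.hyp M h16 (NO3b.K0.noOv FF.Glob.aStmt h.syl h.par.toIsMinPar) h.par.toIsMinPar h.le ?_
      o.le ⟨o.elem.sq, o.elem.comm⟩ o.off o.nQ)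
    refine le_trans (le_inf (inf_le_left.trans h.R_le_U) (inf_le_right.trans ?_)) (h.ff o)
    exact ZN.zc_le_centralizer _

end Rx

end Cfsg.Agent.Omega.NO3S.RedC

end

section


/-!
# RED in the case (L) (helper284 #23199): (5), the W-stage at `DX`

`V = Ω₁(Z(DX))` is not FF and has a bad subgroup: impossible (`Rx.false_of_bad`).
-/

set_option autoImplicit false
set_option linter.unusedSectionVars false

namespace Cfsg.Agent.Omega.NO3S.RedC

open Subgroup Cfsg Cfsg.Agent.ZN Cfsg.Agent.ZN.ChoiceBase Cfsg.Agent.Omega.MinPar Cfsg.Agent.Omega.Frame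
open Cfsg.Agent.Omega.FrameNOFF (CZ)
open Cfsg.Agent.Omega.NO3b.EZero (cl_le)
open Cfsg.Agent.Omega.NO3b.Wc (WC)
open Cfsg.Agent.Omega.NO3S.Level
open Cfsg.Agent.Omega.NO3S.Fld (Crd)
open Cfsg.Agent.Omega.NO3S.Fld.WFour (O5)
open Cfsg.Agent.Omega.FFThm (OffM)
open scoped Pointwise

universe u

variable {G : Type u} [Group G] [Finite G] {S : Sylow 2 G} {P X : Subgroup G} {F : Type*} [Field F]

/-- No subgroup offends on `V`. -/
theorem noOff_of {V A : Subgroup G} (hn : NO3b.EZero.NotFF V) (hA : A ≤ normalizer (V : Set G)) : ¬ OffM V A := by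
  intro hoff
  obtain ⟨B, hB, hB2, h1⟩ := NOThreeL.VF.exists_two hA hoff.toElemM
  have hne : ¬ B ≤ centralizer (V : Set G) := fun hc => hoff.ne fun a ha => by
    obtain ⟨b, hb, hab⟩ := h1 a ha
    have h2 := mul_mem (hc hb) hab
    have e : b * (b⁻¹ * a) = a := by group
    rwa [e] at h2
  have hE := NOThreeL.VF.elemM_mono hoff.toElemM hB
  have h3 := hn B hB2 (hB.trans hA) hE.sq hE.comm hne
  have h4 : Nat.card V ≤ NOThreeL.VF.fM V B := by
    rw [NOThreeL.VF.fM_congr hB h1]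
    exact NOThreeL.VF.le_fM_iff.2 hoff.le
  exact absurd (FFThm.relIndex_le_iff.1 (NOThreeL.VF.le_fM_iff.1 h4)) (not_le.2 h3)

/-- A 2-group containing `DX` lies in `GX`. -/
theorem pgroup_le {T : Subgroup G} (hT : IsPGroup 2 T) (h1 : DX (S : Subgroup G) P X ≤ T) :
    T ≤ GX (S : Subgroup G) P X := by
  obtain ⟨S', hS'⟩ := hT.exists_le_sylow
  obtain ⟨l, hl⟩ := MulAction.exists_smul_eq G S S'
  have hl2 : (S' : Subgroup G) = cj l (S : Subgroup G) := by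
    rw [← hl, Sylow.coe_subgroup_smul]; rfl
  rw [hl2] at hS'
  have h2 : cj l⁻¹ (DX (S : Subgroup G) P X) ≤ (S : Subgroup G) := by
    have h3 := cj_mono l⁻¹ (h1.trans hS')
    rwa [cj_inv_cj] at h3
  have h3 : l ∈ GX (S : Subgroup G) P X := by
    have := inv_mem (mem_GX h2 : l⁻¹ ∈ GX (S : Subgroup G) P X)
    rwa [inv_inv] at this
  refine hS'.trans ?_
  have h4 := cj_mono l (S_le_GX (S : Subgroup G) P X)
  rwa [cj_eq_of_mem_normalizer (Subgroup.le_normalizer h3)] at h4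

/-- `O₂(Y) ≤ GX` for every `Y ≥ DX`. -/
theorem o2_le_GX {Y : Subgroup G} (hY : DX (S : Subgroup G) P X ≤ Y) : o2 Y ≤ GX (S : Subgroup G) P X := by
  obtain ⟨T, hT, h1⟩ := ChoiceSit.exists_syl (S.isPGroup'.to_le (DX_le (S : Subgroup G) P X)) hY
  exact (ChoiceSit.o2_le_syl hT).trans (pgroup_le hT.2.1 h1)

namespace Rx

variable {M : Crd F (S : Subgroup G) P (zl (S : Subgroup G) P)} (h : Rx S P X M)
include h

theorem exists_hyp (hn : NO3b.EZero.NotFF (zc (DX (S : Subgroup G) P X))) {F₀ : Subgroup G}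
    (h0 : NOne.Flat.Bad (zc (DX (S : Subgroup G) P X)) F₀) :
    ∃ F₁, F₀ ≤ F₁ ∧ NOne.Flat.Hyp (zc (DX (S : Subgroup G) P X)) F₁ := by
  refine NOne.Flat.exists_hyp h.V_comm h.V_sq (fun D _ hD => ?_) (fun _ hA => noOff_of hn hA) (fun D hne hD => ?_) h0
  · exact (o2_le_GX (h.D_cent.trans (centralizer_le hD))).trans (GX_norm _ _ _)
  · have hD2 : IsPGroup 2 D := S.isPGroup'.to_le (hD.trans h.V_le_S)
    exact NOne.LemmaT.char2_of_normal (MinSimple.Basic.char2_normalizer h.hG hD2 hne)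
      (centralizer_le_normalizer _)
      (normalizer_le_of_cj (F := fun T => centralizer (T : Set G)) (fun g T => (cj_centralizer g T).symm) D)

/-- Some `W_F ≤ S` is not in `O₂(P)` or not in `O₂(X)`. -/
theorem exists_W (hn : NO3b.EZero.NotFF (zc (DX (S : Subgroup G) P X))) {F₀ : Subgroup G}
    (h0 : NOne.Flat.Bad (zc (DX (S : Subgroup G) P X)) F₀) :
    ∃ F₁, NOne.Flat.Hyp (zc (DX (S : Subgroup G) P X)) F₁ ∧
      NOne.Flat.WW (zc (DX (S : Subgroup G) P X)) F₁ ≤ (S : Subgroup G) ∧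
      (¬ NOne.Flat.WW (zc (DX (S : Subgroup G) P X)) F₁ ≤ o2 P ∨
        ¬ NOne.Flat.WW (zc (DX (S : Subgroup G) P X)) F₁ ≤ o2 X) := by
  obtain ⟨F₁, -, hF⟩ := h.exists_hyp hn h0
  set V := zc (DX (S : Subgroup G) P X) with hV
  have hWM : NOne.Flat.WW V F₁ ≤ GX (S : Subgroup G) P X :=
    NOne.Flat.Hyp.W_le_R.trans (o2_le_GX (h.D_cent.trans (centralizer_le hF.F_le_V)))
  have hW2 : IsPGroup 2 (NOne.Flat.WW V F₁) := (isPGroup_o2 _).to_le NOne.Flat.Hyp.W_le_R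
  obtain ⟨A, ⟨m, hm, rfl⟩, hmS, hA⟩ := h.prin le_rfl hWM hW2 hF.W_move
    (𝓕 := {A | ∃ m ∈ GX (S : Subgroup G) P X, cj m (NOne.Flat.WW V F₁) = A})
    (fun A hA n hn => by
      obtain ⟨m, hm, rfl⟩ := hA
      exact ⟨n * m, mul_mem hn hm, (cj_cj n m _).symm⟩)
    ⟨1, one_mem _, by rw [cj_one]⟩
  have hmV : m ∈ normalizer (V : Set G) := GX_norm _ _ _ hm
  have e : NOne.Flat.WW V (MulAut.conj m • F₁) = cj m (NOne.Flat.WW V F₁) := (NOne.Flat.WW_conj hmV).symm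
  exact ⟨MulAut.conj m • F₁, hF.conj hmV, by rw [e]; exact hmS, by rw [e]; exact hA⟩

/-- `U ≤ O₂(C_G(Z))` -/
theorem U_low : NO3b.EZero.cl (zl (S : Subgroup G) P) X ≤ o2 (CZ (S : Subgroup G)) := cl_le fun x hx => by
  have h1 := cj_mono x (h.cl.hypN.low P h.parP)
  rwa [cj_eq_of_mem_normalizer (ZN.le_normalizer_o2 _ (h.le hx))] at h1

theorem U_le_V : NO3b.EZero.cl (zl (S : Subgroup G) P) X ≤ zc (DX (S : Subgroup G) P X) := h.cl_le_V (GX_norm _ _ _) h.L_le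

theorem U_le_E {F₁ : Subgroup G} (hF : NOne.Flat.Hyp (zc (DX (S : Subgroup G) P X)) F₁)
    (hW : NOne.Flat.WW (zc (DX (S : Subgroup G) P X)) F₁ ≤ (S : Subgroup G)) :
    NO3b.EZero.cl (zl (S : Subgroup G) P) X ≤ NOne.Flat.EE (zc (DX (S : Subgroup G) P X)) F₁ :=
  BetaFF.le_EE_of_low hF h.U_le_V (BetaFF.zc_le_F hF h.Z_le hW) h.U_low

/-- `W_F ≤ S`, `W_F ≰ O₂(X)` is an offender on all subgroups of `U`. -/
theorem o5 {F₁ : Subgroup G} (hF : NOne.Flat.Hyp (zc (DX (S : Subgroup G) P X)) F₁)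
    (hW : NOne.Flat.WW (zc (DX (S : Subgroup G) P X)) F₁ ≤ (S : Subgroup G))
    (hQ : ¬ NOne.Flat.WW (zc (DX (S : Subgroup G) P X)) F₁ ≤ o2 X) :
    O5 S P X (NOne.Flat.WW (zc (DX (S : Subgroup G) P X)) F₁) where
  le := hW
  elem := ⟨fun a ha => centralizer_le ((h.U_le_E hF hW).trans inf_le_left) (hF.elemM_W.sq a ha),
    fun a ha b hb => centralizer_le ((h.U_le_E hF hW).trans inf_le_left) (hF.elemM_W.comm a ha b hb)⟩
  off := fun Y hY => hF.off_of_le_all (hY.trans (h.U_le_E hF hW))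
  nQ := hQ
  quad := fun u hu a ha => by
    have h1 := inv_mem (hF.comm_EW (h.U_le_E hF hW hu) ha)
    have e : (NOne.NearFF.c u a)⁻¹ = a * u * a⁻¹ * u⁻¹ := by rw [NOne.NearFF.c]; group
    rw [e] at h1
    rw [mem_centralizer_iff]
    intro w hw
    have h2 : w ∈ centralizer (F₁ : Set G) := NOne.Flat.Hyp.W_le_X (V := zc (DX (S : Subgroup G) P X)) hw
    exact (mem_centralizer_iff.1 h2 _ h1).symm

/-- **(5), (6)** -/
theorem false_of_bad [Finite F] [CharP F 2] (hF4 : 4 ≤ Nat.card F)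
    (hZ : Nat.card (zc (S : Subgroup G)) ≠ Nat.card F) (hn : NO3b.EZero.NotFF (zc (DX (S : Subgroup G) P X))) {F₀ : Subgroup G}
    (h0 : NOne.Flat.Bad (zc (DX (S : Subgroup G) P X)) F₀) : False := by
  obtain ⟨F₁, hF, hW, hor⟩ := h.exists_W hn h0
  have hWX : NOne.Flat.WW (zc (DX (S : Subgroup G) P X)) F₁ ≤ o2 X := by
    by_contra hcon
    exact h.single hZ (h.o5 hF hW hcon)
  have hWP := hor.resolve_right (not_not.2 hWX)
  have hPV : P ≤ normalizer (zc (DX (S : Subgroup G) P X) : Set G) := h.P_le.trans (GX_norm _ _ _)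
  obtain ⟨fr, hM⟩ := Omega.BetaFF.exists_fr h.cl.hypN hF hPV h.L_le hW hWP M
  refine act_false fr hF4 h.S_X (h.X_le.trans (GX_norm _ _ _)) (h.le.trans Omega.BetaFF.UU_norm) ?_ hWX h.o2X_le ?_
  · -- `C_V(Q) ≤ V_P`
    have h1 : fr.Q = o2 P := h.parP.inf_centralizer S h.hG
    rw [h1, ← h.cl.zc_eq]
    rintro v ⟨hv, hvQ⟩
    refine ChoiceBase.mem_zc.2 ⟨DX_le_P _ _ _ (ZN.zc_le _ hv), h.V_sq v hv, fun q hq => ?_⟩
    exact mem_centralizer_iff.1 hvQ q hq
  · rw [hM]; exact h.mv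

end Rx

end Cfsg.Agent.Omega.NO3S.RedC

end

end

-- merged: Cfsg.Agent.Mrg.Omega.NO3S.RedC.Nff
section

/-!
# RED in the case (L) (helper284 #23199): (3), (4) no offenders

* `Rx.nff_or` : `V_P ≤ W ≤ Ω₁(Z(DX))`, `W` normal in `GX`: `W` is not FF, or `W = V_P`;
* `Rx.not_norm_L` : `X` moves `V_P`;
* `Rx.nff_V`, `Rx.nff_zl`.
-/

set_option autoImplicit false
set_option linter.unusedSectionVars false

namespace Cfsg.Agent.Omega.NO3S.RedC

open Subgroup Cfsg Cfsg.Agent.ZN Cfsg.Agent.ZN.ChoiceBase Cfsg.Agent.Omega.MinPar Cfsg.Agent.Omega.Frame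
open Cfsg.Agent.Omega.FrameNOFF (CZ)
open Cfsg.Agent.Omega.NO3b.EZero (cl cl_le)
open Cfsg.Agent.Omega.NO3S.Level
open Cfsg.Agent.Omega.NO3S.Fld (Crd)
open Cfsg.Agent.Omega.NO3S.Fld.WFour (O5)
open Cfsg.Agent.Omega.FFThm (OffM ElemM)

universe u

variable {G : Type u} [Group G] [Finite G] {S : Sylow 2 G} {P X : Subgroup G} {F : Type*} [Field F] [Finite F]
  [CharP F 2]

/-- No offender in `N ≥ S` implies `NO3b.EZero.NotFF W`. -/
theorem nff_of_noOff {W N : Subgroup G} (hSN : (S : Subgroup G) ≤ N) (hN : N ≤ normalizer (W : Set G))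
    (hno : ∀ A ≤ N, ¬ OffM W A) : NO3b.EZero.NotFF W := by
  intro A hA2 hAN hsq hcm hne
  by_contra hcon
  have hoff : OffM W A := { sq := hsq, comm := hcm, ne := hne, le := FFThm.relIndex_le_iff.2 (not_lt.1 hcon) }
  obtain ⟨g, hg, hgS⟩ := FFThm.exists_conj_le S (hSN.trans hN) hA2 hAN
  refine hno (cj g A) (hgS.trans hSN) ?_
  refine NOThreeL.VF.offM_conj (inv_mem hg) hoff fun x => ?_
  rw [mem_cj, inv_inv]

namespace Rx

variable {M : Crd F (S : Subgroup G) P (zl (S : Subgroup G) P)} (h : Rx S P X M)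
include h

/-- **(3), (4)** -/
theorem nff_or (hZ : Nat.card (zc (S : Subgroup G)) ≠ Nat.card F) {W : Subgroup G}
    (h1 : zl (S : Subgroup G) P ≤ W) (h2 : W ≤ zc (DX (S : Subgroup G) P X))
    (h3 : GX (S : Subgroup G) P X ≤ normalizer (W : Set G)) : NO3b.EZero.NotFF W ∨ W = zl (S : Subgroup G) P := by
  have hFF := FF.Glob.ffthmM.{u}
  have hWc : W ≤ centralizer (W : Set G) := h2.trans (h.V_comm.trans (centralizer_le h2))
  have hWs : ∀ x ∈ W, x ^ 2 = 1 := fun x hx => h.V_sq x (h2 hx)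
  have hWS : W ≤ (S : Subgroup G) := h2.trans h.V_le_S
  by_cases hoff : ∃ A ≤ GX (S : Subgroup G) P X, OffM W A
  · right
    obtain ⟨B, m⟩ := exists_maxMin h3 hoff
    obtain ⟨A, mA, hAS, hor⟩ := h.prin h2 m.le m.pg m.ne (𝓕 := {A | MaxMin W (GX (S : Subgroup G) P X) A})
      (fun A hA n hn => MaxMin.cj hA hn h3) m
    have mA' : MaxMin W (GX (S : Subgroup G) P X) A := mA
    rcases hor with hP | hX
    · have hne : ¬ A ≤ centralizer (zl (S : Subgroup G) P : Set G) := fun hc => hP (by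
        rw [← h.parP.inf_centralizer S h.hG]
        exact le_inf hAS hc)
      have hE : ElemM (zl (S : Subgroup G) P) A :=
        ⟨fun a ha => centralizer_le h1 (mA'.elem.sq a ha), fun a ha b hb => centralizer_le h1 (mA'.elem.comm a ha b hb)⟩
      obtain ⟨no, mo⟩ := mA'.minOff h3 h1 (noOver_line hFF h.hG h.parP (hAS.trans h.parP.le) hE hne) hne
      exact eq_of_min hFF h.hG h.parP h.P_le h.hyp.cv hWc hWs h3 h1 hWS no mo hAS hne
    · exact (h.single hZ (mA'.o5 hWc h3 hWS hAS (h.cl_le_V h3 h1) hX)).elim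
  · left
    push Not at hoff
    exact nff_of_noOff h.S_le h3 hoff

/-- `X` moves `V_P`. -/
theorem not_norm_L (hZ : Nat.card (zc (S : Subgroup G)) ≠ Nat.card F) :
    ¬ X ≤ normalizer (zl (S : Subgroup G) P : Set G) := by
  intro hXL
  have hG := h.hG
  have hP := h.parP
  have hQ : o2 P ≤ o2 X := by
    rw [← hP.inf_centralizer S hG]
    exact h.cs_le_X hXL M.R_le
  have hU : NO3b.EZero.cl (zl (S : Subgroup G) P) X ≤ zl (S : Subgroup G) P := cl_le fun x hx => by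
    rw [cj_eq_of_mem_normalizer (hXL hx)]
  obtain ⟨A₀, hA₀, hA₀Q⟩ : ∃ A ∈ BO (S : Subgroup G) (o2 P), ¬ A ≤ o2 P := by
    obtain ⟨A, hAS, hAo⟩ := h.cl.ff P h.cl.pss
    rw [← h.cl.zc_eq] at hAo
    obtain ⟨B, hBA, hB, hBne⟩ := NO1.BestOff.exists_best hAo
    refine ⟨B, ⟨hBA.trans hAS, hB⟩, fun h1 => hBne (h1.trans (Level.le_centralizer_zc _))⟩
  have hL : Fld.LevF M (o2 P) := Fld.levF hG hP M h.cl.levQ le_rfl hA₀ hA₀Q
  by_cases hall : ∀ A ∈ BO (S : Subgroup G) (o2 P), A ≤ o2 X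
  · have h1 : nxt (S : Subgroup G) (o2 P) ≤ o2 X := by
      refine sup_le ?_ (sSup_le hall)
      rw [h.cl.zc_eq, hP.inf_centralizer S hG]
      exact hQ
    exact h.mv ((hL.lev.next.le_norm_of_o2 h1 h.o2X_le).trans hL.norm_nxt)
  · push Not at hall
    obtain ⟨A, hA, hAX⟩ := hall
    have hUz : NO3b.EZero.cl (zl (S : Subgroup G) P) X ≤ zc (o2 P) := by rw [h.cl.zc_eq]; exact hU
    have hAB := hL.AB A hA
    refine h.single hZ (A := A)
      { le := hA.1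
        elem := ⟨fun a ha => centralizer_le hUz (hA.2.sq a ha), fun a ha b hb => centralizer_le hUz (hA.2.comm a ha b hb)⟩
        off := fun Y hY => Fld.Lv4.BO_le hA (hY.trans hUz)
        nQ := hAX
        quad := fun u hu a ha => ?_ }
    have h1 := hL.bl.comm a (hAB ha) u (hU hu)
    rw [mem_centralizer_iff]
    intro b hb
    exact hL.bl.cB b (hAB hb) _ h1

theorem nff_V (hZ : Nat.card (zc (S : Subgroup G)) ≠ Nat.card F) : NO3b.EZero.NotFF (zc (DX (S : Subgroup G) P X)) := by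
  rcases h.nff_or hZ h.L_le le_rfl (GX_norm _ _ _) with h1 | h1
  · exact h1
  · refine absurd ?_ (h.not_norm_L hZ)
    rw [← h1]
    exact h.X_le.trans (GX_norm _ _ _)

theorem nff_zl (hZ : Nat.card (zc (S : Subgroup G)) ≠ Nat.card F) :
    NO3b.EZero.NotFF (zl (S : Subgroup G) (GX (S : Subgroup G) P X)) := by
  rcases h.nff_or hZ h.L_le_zl h.zl_GX_le (ZN.le_normalizer_zl _ _) with h1 | h1
  · exact h1
  · refine absurd ?_ (h.not_norm_L hZ)
    rw [← h1]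
    exact h.X_le.trans (ZN.le_normalizer_zl _ _)

end Rx

end Cfsg.Agent.Omega.NO3S.RedC

end
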